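import Mathlib.GroupTheory.Transfer
import Mathlib.GroupTheory.Abelianization.Finite
import Mathlib.Algebra.MonoidAlgebra.Basic
import Mathlib.LinearAlgebra.FreeModule.Finite.CardQuotient
import Mathlib.LinearAlgebra.Matrix.Adjugate

/-!
# The transfer into the derived subgroup is trivial

The determinant argument in the group ring: with `S = ℤ[G/G']`, a relation matrix of the generators `g - 1`
of the augmentation ideal has as determinant `± ∑_{q} q`.
-/

namespace CfsgLib.PrincipalIdeal

open MonoidAlgebra

variable {G : Type*} [Group G] [Finite G]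

/-- The projection of group rings. -/
noncomputable def proj (G : Type*) [Group G] : MonoidAlgebra ℤ G →+* MonoidAlgebra ℤ (Abelianization G) :=
  mapDomainRingHom ℤ Abelianization.of

/-- The augmentation. -/
noncomputable def aug (G : Type*) [Group G] : MonoidAlgebra ℤ (Abelianization G) →+* ℤ :=
  (MonoidAlgebra.lift ℤ ℤ (Abelianization G) (1 : Abelianization G →* ℤ)).toRingHom

/-- A section of the projection. -/
noncomputable def sec (q : Abelianization G) : G := Function.surjInv QuotientGroup.mk_surjective q

omit [Finite G] in
theorem of_sec (q : Abelianization G) : Abelianization.of (sec q) = q :=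
  Function.surjInv_eq (f := (QuotientGroup.mk : G → G ⧸ commutator G)) QuotientGroup.mk_surjective q

omit [Finite G] in
theorem of_eq_one_iff {g : G} : Abelianization.of g = 1 ↔ g ∈ commutator G := by
  rw [← MonoidHom.mem_ker, Abelianization.ker_of]

/-- The part of `g` in the derived subgroup. -/
noncomputable def part (g : G) : commutator G :=
  ⟨g * (sec (Abelianization.of g))⁻¹, of_eq_one_iff.mp (by rw [map_mul, map_inv, of_sec, mul_inv_cancel])⟩

/-- The same, in the abelianization of the derived subgroup. -/
noncomputable def val (g : G) : Additive (Abelianization (commutator G)) :=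
  Additive.ofMul (Abelianization.of (part g))

/-- Additive extension of `val` to the group ring. -/
noncomputable def phi : MonoidAlgebra ℤ G →+ Additive (Abelianization (commutator G)) :=
  (Finsupp.liftAddHom fun g => zmultiplesHom _ (val g)).comp (coeffAddEquiv (R := ℤ) (M := G)).toAddMonoidHom

omit [Finite G] in
theorem phi_single (g : G) (c : ℤ) : phi (single g c) = c • val g := by
  show Finsupp.liftAddHom (fun g => zmultiplesHom _ (val g)) (single g c).coeff = _
  rw [coeff_single, Finsupp.liftAddHom_apply_single]
  rfl

omit [Finite G] in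
theorem val_mul {a : G} (ha : a ∈ commutator G) (g : G) :
    val (a * g) = Additive.ofMul (Abelianization.of (⟨a, ha⟩ : commutator G)) + val g := by
  rw [val, val, ← ofMul_mul, ← map_mul]
  congr 2
  refine Subtype.ext ?_
  show a * g * (sec (Abelianization.of (a * g)))⁻¹ = a * (g * (sec (Abelianization.of g))⁻¹)
  rw [map_mul, of_eq_one_iff.mpr ha, one_mul, mul_assoc]

omit [Finite G] in
theorem proj_single (g : G) (c : ℤ) : proj G (single g c) = single (Abelianization.of g) c := by
  simp [proj]

omit [Finite G] in
theorem aug_single (q : Abelianization G) (c : ℤ) : aug G (single q c) = c := by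
  simp [aug, MonoidAlgebra.lift_single]

/-- Replace every element by its chosen representative. -/
noncomputable def rep : MonoidAlgebra ℤ G →+ MonoidAlgebra ℤ G :=
  (coeffAddEquiv (R := ℤ) (M := G)).symm.toAddMonoidHom.comp
    ((Finsupp.mapDomain.addMonoidHom fun g => sec (Abelianization.of g)).comp
      (coeffAddEquiv (R := ℤ) (M := G)).toAddMonoidHom)

omit [Finite G] in
theorem rep_single (g : G) (c : ℤ) : rep (single g c) = single (sec (Abelianization.of g)) c := by
  simp [rep]

omit [Finite G] in
theorem rep_eq (r : MonoidAlgebra ℤ G) :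
    rep r = (coeffAddEquiv (R := ℤ) (M := G)).symm ((proj G r).coeff.mapDomain sec) := by
  simp [rep, proj, ← Finsupp.mapDomain_comp, Function.comp_def]

/-- `phi` kills `ker proj` times the augmentation ideal. -/
theorem phi_mul_eq_zero {r : MonoidAlgebra ℤ G} (hr : proj G r = 0) (k : G) :
    phi (r * (single k 1 - 1)) = 0 := by
  have key : ∀ z : MonoidAlgebra ℤ G,
      phi ((z - rep z) * (single k 1 - 1)) = 0 := by
    intro z
    induction z using MonoidAlgebra.induction_linear with
    | zero => simp
    | add u v hu hv =>
      have h1 : u + v - rep (u + v) = (u - rep u) + (v - rep v) := by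
        rw [map_add]; abel
      rw [h1, add_mul, map_add, hu, hv, add_zero]
    | single g c =>
      set s := sec (Abelianization.of g)
      have hs : rep (single g c) = single s c := rep_single g c
      have ha : g * s⁻¹ ∈ commutator G := (part g).2
      have h1 : val g = Additive.ofMul (Abelianization.of (⟨g * s⁻¹, ha⟩ : commutator G)) + val s := by
        rw [← val_mul ha, inv_mul_cancel_right]
      have h2 : val (g * k) =
          Additive.ofMul (Abelianization.of (⟨g * s⁻¹, ha⟩ : commutator G)) + val (s * k) := by
        rw [← val_mul ha, mul_assoc, inv_mul_cancel_left]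
      rw [hs, mul_sub, mul_one, sub_mul, single_mul_single, single_mul_single, mul_one]
      simp only [map_sub, phi_single, h1, h2, smul_add]
      abel
  have h := key r
  have h0 : rep r = 0 := by rw [rep_eq, hr]; simp
  rwa [h0, sub_zero] at h

/-- `g - 1` modulo the square of the augmentation ideal factors through the abelianization. -/
theorem exists_relation [Fintype G] {c : G → ℤ}
    (hc : ∑ g, c g • Additive.ofMul (Abelianization.of g) = 0) :
    ∃ e : G → MonoidAlgebra ℤ G, (∀ g, aug G (proj G (e g)) = 0) ∧
      ∑ g, c g • (single g 1 - 1 : MonoidAlgebra ℤ G) = ∑ g, e g * (single g 1 - 1) := by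
  classical
  let x : G → MonoidAlgebra ℤ G := fun g => single g 1 - 1
  let J : AddSubgroup (MonoidAlgebra ℤ G) :=
    { carrier := {y | ∃ e : G → MonoidAlgebra ℤ G, (∀ g, aug G (proj G (e g)) = 0) ∧ y = ∑ g, e g * x g}
      zero_mem' := ⟨0, fun g => by simp, by simp⟩
      add_mem' := by
        rintro _ _ ⟨e, he, rfl⟩ ⟨f, hf, rfl⟩
        exact ⟨e + f, fun g => by simp [he g, hf g], by simp [add_mul, Finset.sum_add_distrib]⟩
      neg_mem' := by
        rintro _ ⟨e, he, rfl⟩
        exact ⟨-e, fun g => by simp [he g], by simp⟩ }
  have hx : ∀ a, aug G (proj G (x a)) = 0 := fun a => by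
    simp [x, map_sub, proj_single, aug_single]
  let f : G →* Multiplicative (MonoidAlgebra ℤ G ⧸ J) :=
    MonoidHom.mk' (fun g => Multiplicative.ofAdd (QuotientAddGroup.mk (x g))) fun a b => by
      rw [← ofAdd_add, ← QuotientAddGroup.mk_add]
      refine congrArg Multiplicative.ofAdd (QuotientAddGroup.eq.mpr ?_)
      refine ⟨Pi.single b (-x a), fun g => ?_, ?_⟩
      · by_cases h : g = b
        · subst h; simp [hx a]
        · simp [h]
      · rw [Finset.sum_eq_single b (fun g _ h => by simp [h]) (by simp), Pi.single_eq_same]
        simp only [x, sub_mul, mul_sub, one_mul, mul_one, single_mul_single, neg_mul]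
        abel
  let f' : Additive (Abelianization G) →+ MonoidAlgebra ℤ G ⧸ J :=
    MonoidHom.toAdditiveLeft (Abelianization.lift f)
  have hf : ∀ g, f' (Additive.ofMul (Abelianization.of g)) = QuotientAddGroup.mk (x g) := fun g => by
    show Multiplicative.toAdd (Abelianization.lift f (Abelianization.of g)) = _
    rw [Abelianization.lift_apply_of]
    rfl
  have h := congrArg f' hc
  rw [map_sum, map_zero] at h
  simp only [map_zsmul, hf] at h
  refine (QuotientAddGroup.eq_zero_iff (N := J) (∑ g, c g • x g)).mp ?_
  show (QuotientAddGroup.mk' J) (∑ g, c g • x g) = 0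
  rw [map_sum]
  simpa using h

/-- The relation lattice has a basis indexed by the generators. -/
theorem exists_basis [Fintype G] [DecidableEq G] : ∃ v : G → G → ℤ,
    (∀ j, ∑ g, v j g • Additive.ofMul (Abelianization.of g) = 0) ∧
      (Matrix.of fun j g => v j g).det.natAbs = Nat.card (Abelianization G) := by
  let ψ : (G → ℤ) →+ Additive (Abelianization G) :=
    { toFun := fun c => ∑ g, c g • Additive.ofMul (Abelianization.of g)
      map_zero' := by simp
      map_add' := fun c d => by simp [add_smul, Finset.sum_add_distrib] }
  have hψ : Function.Surjective ψ := fun q => by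
    refine ⟨Pi.single (sec q.toMul) 1, ?_⟩
    show ∑ g, (Pi.single (sec q.toMul) (1 : ℤ) : G → ℤ) g • Additive.ofMul (Abelianization.of g) = q
    rw [Finset.sum_eq_single (sec q.toMul) (fun g _ h => by simp [h]) (by simp), Pi.single_eq_same,
      one_smul, of_sec]
    rfl
  have hidx : ψ.ker.index = Nat.card (Abelianization G) := by
    rw [AddSubgroup.index_ker, AddMonoidHom.range_eq_top.mpr hψ]
    exact (Nat.card_congr AddSubgroup.topEquiv.toEquiv).trans (Nat.card_congr Additive.toMul)
  set m := Nat.card (Abelianization G)
  have hm : m ≠ 0 := Nat.card_pos.ne'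
  let N : Submodule ℤ (G → ℤ) := ψ.ker.toIntSubmodule
  have hmem : ∀ c : G → ℤ, m • c ∈ N := fun c => by
    show ψ (m • c) = 0
    rw [map_nsmul]
    exact Additive.toMul.injective (by rw [toMul_nsmul, toMul_zero]; exact pow_card_eq_one')
  let μ : (G → ℤ) →ₗ[ℤ] N := (m • (LinearMap.id : (G → ℤ) →ₗ[ℤ] G → ℤ)).codRestrict N fun c => by
    simpa using hmem c
  have hμ : Function.Injective μ := fun a b h => by
    have h1 : m • a = m • b := by simpa [μ] using congrArg Subtype.val h
    funext g
    have h2 := congrFun h1 g
    simp only [Pi.smul_apply, nsmul_eq_mul] at h2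
    exact mul_left_cancel₀ (by exact_mod_cast hm) h2
  have hrank : Module.finrank ℤ N = Fintype.card G := by
    refine le_antisymm ((Submodule.finrank_le N).trans (Module.finrank_pi ℤ).le) ?_
    exact (Module.finrank_pi ℤ).ge.trans (LinearMap.finrank_le_finrank_of_injective hμ)
  let bN : Module.Basis G ℤ N :=
    (Module.finBasisOfFinrankEq ℤ N hrank).reindex (Fintype.equivFin G).symm
  refine ⟨fun j => (bN j : G → ℤ), fun j => (bN j).2, ?_⟩
  rw [← hidx, AddSubgroup.index_eq_natAbs_det (Pi.basisFun ℤ G) ψ.ker bN, Module.Basis.det_apply,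
    ← Matrix.det_transpose]
  rfl

/-- The norm element times `g - 1` is killed by `phi`. -/
theorem sum_val_eq_zero [Fintype G] [Fintype (Abelianization G)] (k : G) :
    ∑ q : Abelianization G, val (sec q * k) = 0 := by
  classical
  obtain ⟨v, hv, hdet⟩ := exists_basis (G := G)
  choose e he hrel using fun j => exists_relation (hv j)
  let x : G → MonoidAlgebra ℤ G := fun g => single g 1 - 1
  let D : G → G → MonoidAlgebra ℤ G := fun j g => (v j g : MonoidAlgebra ℤ G) - e j g
  have hD : ∀ j, ∑ g, D j g * x g = 0 := fun j => by
    simp only [D, sub_mul, Finset.sum_sub_distrib]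
    rw [sub_eq_zero]
    simpa [x, ← zsmul_eq_mul] using hrel j
  let M : Matrix G G (MonoidAlgebra ℤ (Abelianization G)) := Matrix.of fun j g => proj G (D j g)
  set θ := M.det with hθ
  have hsurj : Function.Surjective (proj G) := fun z => by
    induction z using MonoidAlgebra.induction_linear with
    | zero => exact ⟨0, map_zero _⟩
    | add u v hu hv =>
      obtain ⟨a, ha⟩ := hu
      obtain ⟨b, hb⟩ := hv
      exact ⟨a + b, by rw [map_add, ha, hb]⟩
    | single q c => exact ⟨single (sec q) c, by rw [proj_single, of_sec]⟩
  choose lift hlift using hsurj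
  -- Cramer's rule modulo the kernel of the projection
  have main : ∀ T, proj G T = θ → ∀ g, phi (T * x g) = 0 ∧ θ * proj G (x g) = 0 := by
    intro T hT g
    set P : G → MonoidAlgebra ℤ G := fun l => (if g = l then T else 0) - ∑ j, lift (M.adjugate g j) * D j l
    have hP : ∀ l, proj G (P l) = 0 := fun l => by
      have h1 := congrFun (congrFun (Matrix.adjugate_mul M) g) l
      simp only [Matrix.mul_apply, Matrix.smul_apply, Matrix.one_apply, smul_eq_mul, mul_ite, mul_one, mul_zero]
        at h1
      simp only [P, map_sub, map_sum, map_mul, hlift]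
      rw [sub_eq_zero]
      have h2 : ∑ j, M.adjugate g j * proj G (D j l) = if g = l then θ else 0 := h1
      rw [h2]
      split_ifs with h <;> simp [hT]
    have hsum : T * x g = ∑ l, P l * x l := by
      simp only [P, sub_mul, Finset.sum_sub_distrib, Finset.sum_mul, ite_mul, zero_mul]
      rw [Finset.sum_ite_eq Finset.univ g, if_pos (Finset.mem_univ g), Finset.sum_comm]
      simp only [mul_assoc, ← Finset.mul_sum, hD, mul_zero, Finset.sum_const_zero, sub_zero]
    refine ⟨?_, ?_⟩
    · rw [hsum, map_sum]
      exact Finset.sum_eq_zero fun l _ => phi_mul_eq_zero (hP l) l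
    · rw [← hT, ← map_mul, hsum, map_sum]
      exact Finset.sum_eq_zero fun l _ => by rw [map_mul, hP l, zero_mul]
  -- `θ` is a multiple of the norm
  set c := θ.coeff 1 with hc
  have hθc : θ = ∑ q : Abelianization G, single q c := by
    ext q
    have h1 := (main (lift θ) (hlift θ) (sec q)).2
    rw [map_sub, map_one, proj_single, of_sec, mul_sub, mul_one, sub_eq_zero] at h1
    have h2 : (θ * single q 1).coeff q = θ.coeff 1 * 1 :=
      coeff_mul_single_eq_coeff_mul 1 (fun m' _ => by simp)
    rw [h1, mul_one] at h2
    rw [h2, coeff_sum, Finsupp.finsetSum_apply]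
    simp [coeff_single, Finsupp.single_apply, hc]
  have haug : aug G θ = (Matrix.of fun j g => v j g).det := by
    rw [hθ, RingHom.map_det]
    congr 1
    ext j g
    simp [M, D, he j g, RingHom.mapMatrix_apply]
  have hc1 : c = 1 ∨ c = -1 := by
    rw [hθc, map_sum] at haug
    simp only [aug_single, Finset.sum_const, Finset.card_univ, nsmul_eq_mul] at haug
    rw [← haug, Int.natAbs_mul, Int.natAbs_natCast, Nat.card_eq_fintype_card] at hdet
    exact Int.natAbs_eq_iff.mp ((mul_eq_left₀ Fintype.card_ne_zero).mp hdet)
  have hT : proj G (∑ q : Abelianization G, single (sec q) c) = θ := by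
    rw [map_sum, hθc]
    simp [proj_single, of_sec]
  have hval : ∀ q : Abelianization G, val (sec q) = 0 := fun q => by
    have : part (sec q) = 1 := Subtype.ext (by
      show sec q * (sec (Abelianization.of (sec q)))⁻¹ = 1
      rw [of_sec, mul_inv_cancel])
    rw [val, this, map_one, ofMul_one]
  have h := (main _ hT k).1
  simp only [x, mul_sub, mul_one, Finset.sum_mul, single_mul_single, map_sub, map_sum, phi_single, hval,
    smul_zero, Finset.sum_const_zero, sub_zero] at h
  rw [← Finset.smul_sum] at h
  rcases hc1 with e1 | e1 <;> rw [e1] at h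
  · rwa [one_smul] at h
  · rwa [neg_one_smul, neg_eq_zero] at h

/-- The transfer `G → G'/G''` is trivial. -/
theorem transfer_eq_one :
    MonoidHom.transfer (Abelianization.of : ↥(commutator G) →* Abelianization ↥(commutator G)) =
      (1 : G →* Abelianization ↥(commutator G)) := by
  have : Fintype G := Fintype.ofFinite G
  let : Fintype (Abelianization G) := (commutator G).fintypeQuotientOfFiniteIndex
  refine MonoidHom.ext fun g => ?_
  let t : G ⧸ commutator G → G := fun q => (sec (G := G) (show Abelianization G from q)⁻¹)⁻¹
  have ht : ∀ q, (t q : G ⧸ commutator G) = q := fun q => by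
    show Abelianization.of (sec (G := G) (show Abelianization G from q)⁻¹)⁻¹ = (show Abelianization G from q)
    rw [map_inv, of_sec, inv_inv]
  let T : (commutator G).LeftTransversal := ⟨Set.range t, Subgroup.isComplement_range_left ht⟩
  have hsmul : ∀ q : G ⧸ commutator G, (show Abelianization G from g⁻¹ • q) =
      (Abelianization.of g)⁻¹ * (show Abelianization G from q) := fun q =>
    QuotientGroup.induction_on q fun a => (map_mul Abelianization.of g⁻¹ a).trans (by rw [map_inv]; rfl)
  have key : ∀ q : G ⧸ commutator G, (T.2.leftQuotientEquiv q : G)⁻¹ * ((g • T).2.leftQuotientEquiv q : G) =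
      sec (show Abelianization G from q)⁻¹ * g *
        (sec (Abelianization.of (sec (show Abelianization G from q)⁻¹ * g)))⁻¹ := fun q => by
    have h1 : (Abelianization.of (sec (show Abelianization G from q)⁻¹ * g)) =
        (show Abelianization G from g⁻¹ • q)⁻¹ := by
      rw [hsmul, map_mul, of_sec, mul_inv_rev, inv_inv]
    rw [Subgroup.smul_apply_eq_smul_apply_inv_smul, Subgroup.IsComplement.leftQuotientEquiv_apply ht,
      Subgroup.IsComplement.leftQuotientEquiv_apply ht, smul_eq_mul, h1]
    simp only [t, inv_inv, mul_assoc]
  rw [MonoidHom.one_apply, MonoidHom.transfer_def _ T]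
  refine Eq.trans ?_ ((toMul_sum Finset.univ fun q => val (sec q * g)).symm.trans
    (congrArg Additive.toMul (sum_val_eq_zero g)))
  simp only [Subgroup.leftTransversals.diff]
  refine Fintype.prod_equiv (M := Abelianization (commutator G))
    (Equiv.inv (Abelianization G) : G ⧸ commutator G ≃ Abelianization G) _ _ fun q => ?_
  show Abelianization.of _ = Abelianization.of _
  congr 1
  refine Subtype.ext ?_
  exact key q

end CfsgLib.PrincipalIdeal
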